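import Cfsg.Agent.Lib.Invol.Final
import Cfsg.Agent.Lib.Twisted.D4Order

/-!
# The group law of the unipotent subgroup of `³D₄(q)` in characteristic two
-/

set_option autoImplicit false
set_option maxRecDepth 1000000
set_option linter.unusedSectionVars false
set_option linter.unreachableTactic false
set_option linter.unusedTactic false
set_option linter.unusedVariables false

namespace Cfsg.Agent.Lib.Tw3D4

open Cfsg.Lie Cfsg.Agent.Lib.ChevBN.Elem Cfsg.Agent.Lib.ChevBN.Table Cfsg.Agent.Lib.ChevBN.Fast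
open Cfsg.Agent.Lib.ChevBN.FastData Cfsg.Agent.Lib.ChevBN.Collect Cfsg.Agent.Lib.ChevBN.Rel
open Cfsg.Agent.Lib.Invol.Lace Cfsg.Agent.Lib.Invol.Walk Cfsg.Agent.Lib.Invol.LaceCheck
open Cfsg.Agent.Lib.Chevalley.Tbl.D4 (sys)

theorem spec : Spec tabD4 chevD4 where
  hC := fun j hj s hs => cartan_eq hC_D4 hj hs
  hR := fun r hr j hj => cr_eq hR_D4 hr hj
  hW := fun i hi s hs => by
    have h := hW_D4 i hi
    rw [chkW, List.all_eq_true] at h
    simpa using h s (List.mem_range.mpr hs)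

/-- Weights for the height function. -/
def wt (j : ℕ) : ℤ := 10 ^ (4 - j)

theorem rows : ∀ r ∈ List.range' (chevD4.nroots / 2) (chevD4.nroots - chevD4.nroots / 2),
    chkRow tabD4 chevD4 r = true := by
  rw [← List.all_eq_true]
  decide +kernel

theorem mono : chkMono tabD4 chevD4 wt = true := by decide +kernel

theorem lace : Lace chevD4 := lace_of_chk spec tbl_chevD4 rows mono

theorem pos_all : ∀ r ∈ [12, 13, 14, 15, 16, 17, 18, 19, 20, 21, 22, 23], chevD4.IsPosRoot r := by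
  decide +kernel

variable {K : Type*} [Field K] [CharP K 2]

set_option quotPrecheck false in
/-- The root elements. -/
local notation "Xr" => X (sys (F := _)).toAddRel

theorem mg (r : ℕ) (s t : K) (R : GL chevD4.Idx K) : Xr r s * (Xr r t * R) = Xr r (s + t) * R := by
  rw [← mul_assoc, X_mul]

theorem cX {r : ℕ} {s t : K} {R R' : GL chevD4.Idx K} (h : s = t) (h' : R = R') : Xr r s * R = Xr r t * R' := by
  rw [h, h']

theorem sw_13_18 (t u : K) (R : GL chevD4.Idx K) : Xr 13 t * (Xr 18 u * R) = Xr 18 u * (Xr 13 t * R) := by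
  have h := conj_nil (hA := (sys (F := K)).toAddRel) (commPos sys) (a := 13) (κ := 18) (pos_all _ (by simp)) (pos_all _ (by simp)) (by decide) (by decide +kernel) t u
  rw [← mul_assoc, h, mul_assoc]

theorem sw_12_18 (t u : K) (R : GL chevD4.Idx K) : Xr 12 t * (Xr 18 u * R) = Xr 18 u * (Xr 12 t * R) := by
  have h := conj_nil (hA := (sys (F := K)).toAddRel) (commPos sys) (a := 12) (κ := 18) (pos_all _ (by simp)) (pos_all _ (by simp)) (by decide) (by decide +kernel) t u
  rw [← mul_assoc, h, mul_assoc]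

theorem sw_12_13 (t u : K) (R : GL chevD4.Idx K) : Xr 12 t * (Xr 13 u * R) = Xr 13 u * (Xr 12 t * R) := by
  have h := conj_nil (hA := (sys (F := K)).toAddRel) (commPos sys) (a := 12) (κ := 13) (pos_all _ (by simp)) (pos_all _ (by simp)) (by decide) (by decide +kernel) t u
  rw [← mul_assoc, h, mul_assoc]

theorem sw_14_18 (t u : K) (R : GL chevD4.Idx K) : Xr 14 t * (Xr 18 u * R) = Xr 18 u * (Xr 14 t * (Xr 19 (u * t) * R)) := by
  have h := conj_sum (hA := (sys (F := K)).toAddRel) (commPos sys) (a := 14) (κ := 18) (c := 19) (pos_all _ (by simp)) (pos_all _ (by simp)) (by decide) (by first | exact ⟨1, by decide +kernel, Or.inl rfl⟩ | exact ⟨-1, by decide +kernel, Or.inr rfl⟩) t u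
  rw [← mul_assoc, h, mul_assoc, mul_assoc]

theorem sw_14_13 (t u : K) (R : GL chevD4.Idx K) : Xr 14 t * (Xr 13 u * R) = Xr 13 u * (Xr 14 t * (Xr 16 (u * t) * R)) := by
  have h := conj_sum (hA := (sys (F := K)).toAddRel) (commPos sys) (a := 14) (κ := 13) (c := 16) (pos_all _ (by simp)) (pos_all _ (by simp)) (by decide) (by first | exact ⟨1, by decide +kernel, Or.inl rfl⟩ | exact ⟨-1, by decide +kernel, Or.inr rfl⟩) t u
  rw [← mul_assoc, h, mul_assoc, mul_assoc]

theorem sw_14_12 (t u : K) (R : GL chevD4.Idx K) : Xr 14 t * (Xr 12 u * R) = Xr 12 u * (Xr 14 t * (Xr 15 (u * t) * R)) := by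
  have h := conj_sum (hA := (sys (F := K)).toAddRel) (commPos sys) (a := 14) (κ := 12) (c := 15) (pos_all _ (by simp)) (pos_all _ (by simp)) (by decide) (by first | exact ⟨1, by decide +kernel, Or.inl rfl⟩ | exact ⟨-1, by decide +kernel, Or.inr rfl⟩) t u
  rw [← mul_assoc, h, mul_assoc, mul_assoc]

theorem sw_19_18 (t u : K) (R : GL chevD4.Idx K) : Xr 19 t * (Xr 18 u * R) = Xr 18 u * (Xr 19 t * R) := by
  have h := conj_nil (hA := (sys (F := K)).toAddRel) (commPos sys) (a := 19) (κ := 18) (pos_all _ (by simp)) (pos_all _ (by simp)) (by decide) (by decide +kernel) t u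
  rw [← mul_assoc, h, mul_assoc]

theorem sw_19_13 (t u : K) (R : GL chevD4.Idx K) : Xr 19 t * (Xr 13 u * R) = Xr 13 u * (Xr 19 t * (Xr 21 (u * t) * R)) := by
  have h := conj_sum (hA := (sys (F := K)).toAddRel) (commPos sys) (a := 19) (κ := 13) (c := 21) (pos_all _ (by simp)) (pos_all _ (by simp)) (by decide) (by first | exact ⟨1, by decide +kernel, Or.inl rfl⟩ | exact ⟨-1, by decide +kernel, Or.inr rfl⟩) t u
  rw [← mul_assoc, h, mul_assoc, mul_assoc]

theorem sw_19_12 (t u : K) (R : GL chevD4.Idx K) : Xr 19 t * (Xr 12 u * R) = Xr 12 u * (Xr 19 t * (Xr 20 (u * t) * R)) := by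
  have h := conj_sum (hA := (sys (F := K)).toAddRel) (commPos sys) (a := 19) (κ := 12) (c := 20) (pos_all _ (by simp)) (pos_all _ (by simp)) (by decide) (by first | exact ⟨1, by decide +kernel, Or.inl rfl⟩ | exact ⟨-1, by decide +kernel, Or.inr rfl⟩) t u
  rw [← mul_assoc, h, mul_assoc, mul_assoc]

theorem sw_19_14 (t u : K) (R : GL chevD4.Idx K) : Xr 19 t * (Xr 14 u * R) = Xr 14 u * (Xr 19 t * R) := by
  have h := conj_nil (hA := (sys (F := K)).toAddRel) (commPos sys) (a := 19) (κ := 14) (pos_all _ (by simp)) (pos_all _ (by simp)) (by decide) (by decide +kernel) t u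
  rw [← mul_assoc, h, mul_assoc]

theorem sw_16_18 (t u : K) (R : GL chevD4.Idx K) : Xr 16 t * (Xr 18 u * R) = Xr 18 u * (Xr 16 t * (Xr 21 (u * t) * R)) := by
  have h := conj_sum (hA := (sys (F := K)).toAddRel) (commPos sys) (a := 16) (κ := 18) (c := 21) (pos_all _ (by simp)) (pos_all _ (by simp)) (by decide) (by first | exact ⟨1, by decide +kernel, Or.inl rfl⟩ | exact ⟨-1, by decide +kernel, Or.inr rfl⟩) t u
  rw [← mul_assoc, h, mul_assoc, mul_assoc]

theorem sw_16_13 (t u : K) (R : GL chevD4.Idx K) : Xr 16 t * (Xr 13 u * R) = Xr 13 u * (Xr 16 t * R) := by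
  have h := conj_nil (hA := (sys (F := K)).toAddRel) (commPos sys) (a := 16) (κ := 13) (pos_all _ (by simp)) (pos_all _ (by simp)) (by decide) (by decide +kernel) t u
  rw [← mul_assoc, h, mul_assoc]

theorem sw_16_12 (t u : K) (R : GL chevD4.Idx K) : Xr 16 t * (Xr 12 u * R) = Xr 12 u * (Xr 16 t * (Xr 17 (u * t) * R)) := by
  have h := conj_sum (hA := (sys (F := K)).toAddRel) (commPos sys) (a := 16) (κ := 12) (c := 17) (pos_all _ (by simp)) (pos_all _ (by simp)) (by decide) (by first | exact ⟨1, by decide +kernel, Or.inl rfl⟩ | exact ⟨-1, by decide +kernel, Or.inr rfl⟩) t u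
  rw [← mul_assoc, h, mul_assoc, mul_assoc]

theorem sw_16_14 (t u : K) (R : GL chevD4.Idx K) : Xr 16 t * (Xr 14 u * R) = Xr 14 u * (Xr 16 t * R) := by
  have h := conj_nil (hA := (sys (F := K)).toAddRel) (commPos sys) (a := 16) (κ := 14) (pos_all _ (by simp)) (pos_all _ (by simp)) (by decide) (by decide +kernel) t u
  rw [← mul_assoc, h, mul_assoc]

theorem sw_16_19 (t u : K) (R : GL chevD4.Idx K) : Xr 16 t * (Xr 19 u * R) = Xr 19 u * (Xr 16 t * R) := by
  have h := conj_nil (hA := (sys (F := K)).toAddRel) (commPos sys) (a := 16) (κ := 19) (pos_all _ (by simp)) (pos_all _ (by simp)) (by decide) (by decide +kernel) t u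
  rw [← mul_assoc, h, mul_assoc]

theorem sw_15_18 (t u : K) (R : GL chevD4.Idx K) : Xr 15 t * (Xr 18 u * R) = Xr 18 u * (Xr 15 t * (Xr 20 (u * t) * R)) := by
  have h := conj_sum (hA := (sys (F := K)).toAddRel) (commPos sys) (a := 15) (κ := 18) (c := 20) (pos_all _ (by simp)) (pos_all _ (by simp)) (by decide) (by first | exact ⟨1, by decide +kernel, Or.inl rfl⟩ | exact ⟨-1, by decide +kernel, Or.inr rfl⟩) t u
  rw [← mul_assoc, h, mul_assoc, mul_assoc]

theorem sw_15_13 (t u : K) (R : GL chevD4.Idx K) : Xr 15 t * (Xr 13 u * R) = Xr 13 u * (Xr 15 t * (Xr 17 (u * t) * R)) := by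
  have h := conj_sum (hA := (sys (F := K)).toAddRel) (commPos sys) (a := 15) (κ := 13) (c := 17) (pos_all _ (by simp)) (pos_all _ (by simp)) (by decide) (by first | exact ⟨1, by decide +kernel, Or.inl rfl⟩ | exact ⟨-1, by decide +kernel, Or.inr rfl⟩) t u
  rw [← mul_assoc, h, mul_assoc, mul_assoc]

theorem sw_15_12 (t u : K) (R : GL chevD4.Idx K) : Xr 15 t * (Xr 12 u * R) = Xr 12 u * (Xr 15 t * R) := by
  have h := conj_nil (hA := (sys (F := K)).toAddRel) (commPos sys) (a := 15) (κ := 12) (pos_all _ (by simp)) (pos_all _ (by simp)) (by decide) (by decide +kernel) t u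
  rw [← mul_assoc, h, mul_assoc]

theorem sw_15_14 (t u : K) (R : GL chevD4.Idx K) : Xr 15 t * (Xr 14 u * R) = Xr 14 u * (Xr 15 t * R) := by
  have h := conj_nil (hA := (sys (F := K)).toAddRel) (commPos sys) (a := 15) (κ := 14) (pos_all _ (by simp)) (pos_all _ (by simp)) (by decide) (by decide +kernel) t u
  rw [← mul_assoc, h, mul_assoc]

theorem sw_15_19 (t u : K) (R : GL chevD4.Idx K) : Xr 15 t * (Xr 19 u * R) = Xr 19 u * (Xr 15 t * R) := by
  have h := conj_nil (hA := (sys (F := K)).toAddRel) (commPos sys) (a := 15) (κ := 19) (pos_all _ (by simp)) (pos_all _ (by simp)) (by decide) (by decide +kernel) t u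
  rw [← mul_assoc, h, mul_assoc]

theorem sw_15_16 (t u : K) (R : GL chevD4.Idx K) : Xr 15 t * (Xr 16 u * R) = Xr 16 u * (Xr 15 t * R) := by
  have h := conj_nil (hA := (sys (F := K)).toAddRel) (commPos sys) (a := 15) (κ := 16) (pos_all _ (by simp)) (pos_all _ (by simp)) (by decide) (by decide +kernel) t u
  rw [← mul_assoc, h, mul_assoc]

theorem sw_17_18 (t u : K) (R : GL chevD4.Idx K) : Xr 17 t * (Xr 18 u * R) = Xr 18 u * (Xr 17 t * (Xr 22 (u * t) * R)) := by
  have h := conj_sum (hA := (sys (F := K)).toAddRel) (commPos sys) (a := 17) (κ := 18) (c := 22) (pos_all _ (by simp)) (pos_all _ (by simp)) (by decide) (by first | exact ⟨1, by decide +kernel, Or.inl rfl⟩ | exact ⟨-1, by decide +kernel, Or.inr rfl⟩) t u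
  rw [← mul_assoc, h, mul_assoc, mul_assoc]

theorem sw_17_13 (t u : K) (R : GL chevD4.Idx K) : Xr 17 t * (Xr 13 u * R) = Xr 13 u * (Xr 17 t * R) := by
  have h := conj_nil (hA := (sys (F := K)).toAddRel) (commPos sys) (a := 17) (κ := 13) (pos_all _ (by simp)) (pos_all _ (by simp)) (by decide) (by decide +kernel) t u
  rw [← mul_assoc, h, mul_assoc]

theorem sw_17_12 (t u : K) (R : GL chevD4.Idx K) : Xr 17 t * (Xr 12 u * R) = Xr 12 u * (Xr 17 t * R) := by
  have h := conj_nil (hA := (sys (F := K)).toAddRel) (commPos sys) (a := 17) (κ := 12) (pos_all _ (by simp)) (pos_all _ (by simp)) (by decide) (by decide +kernel) t u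
  rw [← mul_assoc, h, mul_assoc]

theorem sw_17_14 (t u : K) (R : GL chevD4.Idx K) : Xr 17 t * (Xr 14 u * R) = Xr 14 u * (Xr 17 t * R) := by
  have h := conj_nil (hA := (sys (F := K)).toAddRel) (commPos sys) (a := 17) (κ := 14) (pos_all _ (by simp)) (pos_all _ (by simp)) (by decide) (by decide +kernel) t u
  rw [← mul_assoc, h, mul_assoc]

theorem sw_17_19 (t u : K) (R : GL chevD4.Idx K) : Xr 17 t * (Xr 19 u * R) = Xr 19 u * (Xr 17 t * (Xr 23 (u * t) * R)) := by
  have h := conj_sum (hA := (sys (F := K)).toAddRel) (commPos sys) (a := 17) (κ := 19) (c := 23) (pos_all _ (by simp)) (pos_all _ (by simp)) (by decide) (by first | exact ⟨1, by decide +kernel, Or.inl rfl⟩ | exact ⟨-1, by decide +kernel, Or.inr rfl⟩) t u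
  rw [← mul_assoc, h, mul_assoc, mul_assoc]

theorem sw_17_16 (t u : K) (R : GL chevD4.Idx K) : Xr 17 t * (Xr 16 u * R) = Xr 16 u * (Xr 17 t * R) := by
  have h := conj_nil (hA := (sys (F := K)).toAddRel) (commPos sys) (a := 17) (κ := 16) (pos_all _ (by simp)) (pos_all _ (by simp)) (by decide) (by decide +kernel) t u
  rw [← mul_assoc, h, mul_assoc]

theorem sw_17_15 (t u : K) (R : GL chevD4.Idx K) : Xr 17 t * (Xr 15 u * R) = Xr 15 u * (Xr 17 t * R) := by
  have h := conj_nil (hA := (sys (F := K)).toAddRel) (commPos sys) (a := 17) (κ := 15) (pos_all _ (by simp)) (pos_all _ (by simp)) (by decide) (by decide +kernel) t u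
  rw [← mul_assoc, h, mul_assoc]

theorem sw_20_18 (t u : K) (R : GL chevD4.Idx K) : Xr 20 t * (Xr 18 u * R) = Xr 18 u * (Xr 20 t * R) := by
  have h := conj_nil (hA := (sys (F := K)).toAddRel) (commPos sys) (a := 20) (κ := 18) (pos_all _ (by simp)) (pos_all _ (by simp)) (by decide) (by decide +kernel) t u
  rw [← mul_assoc, h, mul_assoc]

theorem sw_20_13 (t u : K) (R : GL chevD4.Idx K) : Xr 20 t * (Xr 13 u * R) = Xr 13 u * (Xr 20 t * (Xr 22 (u * t) * R)) := by
  have h := conj_sum (hA := (sys (F := K)).toAddRel) (commPos sys) (a := 20) (κ := 13) (c := 22) (pos_all _ (by simp)) (pos_all _ (by simp)) (by decide) (by first | exact ⟨1, by decide +kernel, Or.inl rfl⟩ | exact ⟨-1, by decide +kernel, Or.inr rfl⟩) t u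
  rw [← mul_assoc, h, mul_assoc, mul_assoc]

theorem sw_20_12 (t u : K) (R : GL chevD4.Idx K) : Xr 20 t * (Xr 12 u * R) = Xr 12 u * (Xr 20 t * R) := by
  have h := conj_nil (hA := (sys (F := K)).toAddRel) (commPos sys) (a := 20) (κ := 12) (pos_all _ (by simp)) (pos_all _ (by simp)) (by decide) (by decide +kernel) t u
  rw [← mul_assoc, h, mul_assoc]

theorem sw_20_14 (t u : K) (R : GL chevD4.Idx K) : Xr 20 t * (Xr 14 u * R) = Xr 14 u * (Xr 20 t * R) := by
  have h := conj_nil (hA := (sys (F := K)).toAddRel) (commPos sys) (a := 20) (κ := 14) (pos_all _ (by simp)) (pos_all _ (by simp)) (by decide) (by decide +kernel) t u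
  rw [← mul_assoc, h, mul_assoc]

theorem sw_20_19 (t u : K) (R : GL chevD4.Idx K) : Xr 20 t * (Xr 19 u * R) = Xr 19 u * (Xr 20 t * R) := by
  have h := conj_nil (hA := (sys (F := K)).toAddRel) (commPos sys) (a := 20) (κ := 19) (pos_all _ (by simp)) (pos_all _ (by simp)) (by decide) (by decide +kernel) t u
  rw [← mul_assoc, h, mul_assoc]

theorem sw_20_16 (t u : K) (R : GL chevD4.Idx K) : Xr 20 t * (Xr 16 u * R) = Xr 16 u * (Xr 20 t * (Xr 23 (u * t) * R)) := by
  have h := conj_sum (hA := (sys (F := K)).toAddRel) (commPos sys) (a := 20) (κ := 16) (c := 23) (pos_all _ (by simp)) (pos_all _ (by simp)) (by decide) (by first | exact ⟨1, by decide +kernel, Or.inl rfl⟩ | exact ⟨-1, by decide +kernel, Or.inr rfl⟩) t u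
  rw [← mul_assoc, h, mul_assoc, mul_assoc]

theorem sw_20_15 (t u : K) (R : GL chevD4.Idx K) : Xr 20 t * (Xr 15 u * R) = Xr 15 u * (Xr 20 t * R) := by
  have h := conj_nil (hA := (sys (F := K)).toAddRel) (commPos sys) (a := 20) (κ := 15) (pos_all _ (by simp)) (pos_all _ (by simp)) (by decide) (by decide +kernel) t u
  rw [← mul_assoc, h, mul_assoc]

theorem sw_20_17 (t u : K) (R : GL chevD4.Idx K) : Xr 20 t * (Xr 17 u * R) = Xr 17 u * (Xr 20 t * R) := by
  have h := conj_nil (hA := (sys (F := K)).toAddRel) (commPos sys) (a := 20) (κ := 17) (pos_all _ (by simp)) (pos_all _ (by simp)) (by decide) (by decide +kernel) t u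
  rw [← mul_assoc, h, mul_assoc]

theorem sw_21_18 (t u : K) (R : GL chevD4.Idx K) : Xr 21 t * (Xr 18 u * R) = Xr 18 u * (Xr 21 t * R) := by
  have h := conj_nil (hA := (sys (F := K)).toAddRel) (commPos sys) (a := 21) (κ := 18) (pos_all _ (by simp)) (pos_all _ (by simp)) (by decide) (by decide +kernel) t u
  rw [← mul_assoc, h, mul_assoc]

theorem sw_21_13 (t u : K) (R : GL chevD4.Idx K) : Xr 21 t * (Xr 13 u * R) = Xr 13 u * (Xr 21 t * R) := by
  have h := conj_nil (hA := (sys (F := K)).toAddRel) (commPos sys) (a := 21) (κ := 13) (pos_all _ (by simp)) (pos_all _ (by simp)) (by decide) (by decide +kernel) t u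
  rw [← mul_assoc, h, mul_assoc]

theorem sw_21_12 (t u : K) (R : GL chevD4.Idx K) : Xr 21 t * (Xr 12 u * R) = Xr 12 u * (Xr 21 t * (Xr 22 (u * t) * R)) := by
  have h := conj_sum (hA := (sys (F := K)).toAddRel) (commPos sys) (a := 21) (κ := 12) (c := 22) (pos_all _ (by simp)) (pos_all _ (by simp)) (by decide) (by first | exact ⟨1, by decide +kernel, Or.inl rfl⟩ | exact ⟨-1, by decide +kernel, Or.inr rfl⟩) t u
  rw [← mul_assoc, h, mul_assoc, mul_assoc]

theorem sw_21_14 (t u : K) (R : GL chevD4.Idx K) : Xr 21 t * (Xr 14 u * R) = Xr 14 u * (Xr 21 t * R) := by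
  have h := conj_nil (hA := (sys (F := K)).toAddRel) (commPos sys) (a := 21) (κ := 14) (pos_all _ (by simp)) (pos_all _ (by simp)) (by decide) (by decide +kernel) t u
  rw [← mul_assoc, h, mul_assoc]

theorem sw_21_19 (t u : K) (R : GL chevD4.Idx K) : Xr 21 t * (Xr 19 u * R) = Xr 19 u * (Xr 21 t * R) := by
  have h := conj_nil (hA := (sys (F := K)).toAddRel) (commPos sys) (a := 21) (κ := 19) (pos_all _ (by simp)) (pos_all _ (by simp)) (by decide) (by decide +kernel) t u
  rw [← mul_assoc, h, mul_assoc]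

theorem sw_21_16 (t u : K) (R : GL chevD4.Idx K) : Xr 21 t * (Xr 16 u * R) = Xr 16 u * (Xr 21 t * R) := by
  have h := conj_nil (hA := (sys (F := K)).toAddRel) (commPos sys) (a := 21) (κ := 16) (pos_all _ (by simp)) (pos_all _ (by simp)) (by decide) (by decide +kernel) t u
  rw [← mul_assoc, h, mul_assoc]

theorem sw_21_15 (t u : K) (R : GL chevD4.Idx K) : Xr 21 t * (Xr 15 u * R) = Xr 15 u * (Xr 21 t * (Xr 23 (u * t) * R)) := by
  have h := conj_sum (hA := (sys (F := K)).toAddRel) (commPos sys) (a := 21) (κ := 15) (c := 23) (pos_all _ (by simp)) (pos_all _ (by simp)) (by decide) (by first | exact ⟨1, by decide +kernel, Or.inl rfl⟩ | exact ⟨-1, by decide +kernel, Or.inr rfl⟩) t u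
  rw [← mul_assoc, h, mul_assoc, mul_assoc]

theorem sw_21_17 (t u : K) (R : GL chevD4.Idx K) : Xr 21 t * (Xr 17 u * R) = Xr 17 u * (Xr 21 t * R) := by
  have h := conj_nil (hA := (sys (F := K)).toAddRel) (commPos sys) (a := 21) (κ := 17) (pos_all _ (by simp)) (pos_all _ (by simp)) (by decide) (by decide +kernel) t u
  rw [← mul_assoc, h, mul_assoc]

theorem sw_21_20 (t u : K) (R : GL chevD4.Idx K) : Xr 21 t * (Xr 20 u * R) = Xr 20 u * (Xr 21 t * R) := by
  have h := conj_nil (hA := (sys (F := K)).toAddRel) (commPos sys) (a := 21) (κ := 20) (pos_all _ (by simp)) (pos_all _ (by simp)) (by decide) (by decide +kernel) t u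
  rw [← mul_assoc, h, mul_assoc]

theorem sw_22_18 (t u : K) (R : GL chevD4.Idx K) : Xr 22 t * (Xr 18 u * R) = Xr 18 u * (Xr 22 t * R) := by
  have h := conj_nil (hA := (sys (F := K)).toAddRel) (commPos sys) (a := 22) (κ := 18) (pos_all _ (by simp)) (pos_all _ (by simp)) (by decide) (by decide +kernel) t u
  rw [← mul_assoc, h, mul_assoc]

theorem sw_22_13 (t u : K) (R : GL chevD4.Idx K) : Xr 22 t * (Xr 13 u * R) = Xr 13 u * (Xr 22 t * R) := by
  have h := conj_nil (hA := (sys (F := K)).toAddRel) (commPos sys) (a := 22) (κ := 13) (pos_all _ (by simp)) (pos_all _ (by simp)) (by decide) (by decide +kernel) t u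
  rw [← mul_assoc, h, mul_assoc]

theorem sw_22_12 (t u : K) (R : GL chevD4.Idx K) : Xr 22 t * (Xr 12 u * R) = Xr 12 u * (Xr 22 t * R) := by
  have h := conj_nil (hA := (sys (F := K)).toAddRel) (commPos sys) (a := 22) (κ := 12) (pos_all _ (by simp)) (pos_all _ (by simp)) (by decide) (by decide +kernel) t u
  rw [← mul_assoc, h, mul_assoc]

theorem sw_22_14 (t u : K) (R : GL chevD4.Idx K) : Xr 22 t * (Xr 14 u * R) = Xr 14 u * (Xr 22 t * (Xr 23 (u * t) * R)) := by
  have h := conj_sum (hA := (sys (F := K)).toAddRel) (commPos sys) (a := 22) (κ := 14) (c := 23) (pos_all _ (by simp)) (pos_all _ (by simp)) (by decide) (by first | exact ⟨1, by decide +kernel, Or.inl rfl⟩ | exact ⟨-1, by decide +kernel, Or.inr rfl⟩) t u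
  rw [← mul_assoc, h, mul_assoc, mul_assoc]

theorem sw_22_19 (t u : K) (R : GL chevD4.Idx K) : Xr 22 t * (Xr 19 u * R) = Xr 19 u * (Xr 22 t * R) := by
  have h := conj_nil (hA := (sys (F := K)).toAddRel) (commPos sys) (a := 22) (κ := 19) (pos_all _ (by simp)) (pos_all _ (by simp)) (by decide) (by decide +kernel) t u
  rw [← mul_assoc, h, mul_assoc]

theorem sw_22_16 (t u : K) (R : GL chevD4.Idx K) : Xr 22 t * (Xr 16 u * R) = Xr 16 u * (Xr 22 t * R) := by
  have h := conj_nil (hA := (sys (F := K)).toAddRel) (commPos sys) (a := 22) (κ := 16) (pos_all _ (by simp)) (pos_all _ (by simp)) (by decide) (by decide +kernel) t u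
  rw [← mul_assoc, h, mul_assoc]

theorem sw_22_15 (t u : K) (R : GL chevD4.Idx K) : Xr 22 t * (Xr 15 u * R) = Xr 15 u * (Xr 22 t * R) := by
  have h := conj_nil (hA := (sys (F := K)).toAddRel) (commPos sys) (a := 22) (κ := 15) (pos_all _ (by simp)) (pos_all _ (by simp)) (by decide) (by decide +kernel) t u
  rw [← mul_assoc, h, mul_assoc]

theorem sw_22_17 (t u : K) (R : GL chevD4.Idx K) : Xr 22 t * (Xr 17 u * R) = Xr 17 u * (Xr 22 t * R) := by
  have h := conj_nil (hA := (sys (F := K)).toAddRel) (commPos sys) (a := 22) (κ := 17) (pos_all _ (by simp)) (pos_all _ (by simp)) (by decide) (by decide +kernel) t u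
  rw [← mul_assoc, h, mul_assoc]

theorem sw_22_20 (t u : K) (R : GL chevD4.Idx K) : Xr 22 t * (Xr 20 u * R) = Xr 20 u * (Xr 22 t * R) := by
  have h := conj_nil (hA := (sys (F := K)).toAddRel) (commPos sys) (a := 22) (κ := 20) (pos_all _ (by simp)) (pos_all _ (by simp)) (by decide) (by decide +kernel) t u
  rw [← mul_assoc, h, mul_assoc]

theorem sw_22_21 (t u : K) (R : GL chevD4.Idx K) : Xr 22 t * (Xr 21 u * R) = Xr 21 u * (Xr 22 t * R) := by
  have h := conj_nil (hA := (sys (F := K)).toAddRel) (commPos sys) (a := 22) (κ := 21) (pos_all _ (by simp)) (pos_all _ (by simp)) (by decide) (by decide +kernel) t u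
  rw [← mul_assoc, h, mul_assoc]

theorem sw_23_18 (t u : K) (R : GL chevD4.Idx K) : Xr 23 t * (Xr 18 u * R) = Xr 18 u * (Xr 23 t * R) := by
  have h := conj_nil (hA := (sys (F := K)).toAddRel) (commPos sys) (a := 23) (κ := 18) (pos_all _ (by simp)) (pos_all _ (by simp)) (by decide) (by decide +kernel) t u
  rw [← mul_assoc, h, mul_assoc]

theorem sw_23_13 (t u : K) (R : GL chevD4.Idx K) : Xr 23 t * (Xr 13 u * R) = Xr 13 u * (Xr 23 t * R) := by
  have h := conj_nil (hA := (sys (F := K)).toAddRel) (commPos sys) (a := 23) (κ := 13) (pos_all _ (by simp)) (pos_all _ (by simp)) (by decide) (by decide +kernel) t u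
  rw [← mul_assoc, h, mul_assoc]

theorem sw_23_12 (t u : K) (R : GL chevD4.Idx K) : Xr 23 t * (Xr 12 u * R) = Xr 12 u * (Xr 23 t * R) := by
  have h := conj_nil (hA := (sys (F := K)).toAddRel) (commPos sys) (a := 23) (κ := 12) (pos_all _ (by simp)) (pos_all _ (by simp)) (by decide) (by decide +kernel) t u
  rw [← mul_assoc, h, mul_assoc]

theorem sw_23_14 (t u : K) (R : GL chevD4.Idx K) : Xr 23 t * (Xr 14 u * R) = Xr 14 u * (Xr 23 t * R) := by
  have h := conj_nil (hA := (sys (F := K)).toAddRel) (commPos sys) (a := 23) (κ := 14) (pos_all _ (by simp)) (pos_all _ (by simp)) (by decide) (by decide +kernel) t u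
  rw [← mul_assoc, h, mul_assoc]

theorem sw_23_19 (t u : K) (R : GL chevD4.Idx K) : Xr 23 t * (Xr 19 u * R) = Xr 19 u * (Xr 23 t * R) := by
  have h := conj_nil (hA := (sys (F := K)).toAddRel) (commPos sys) (a := 23) (κ := 19) (pos_all _ (by simp)) (pos_all _ (by simp)) (by decide) (by decide +kernel) t u
  rw [← mul_assoc, h, mul_assoc]

theorem sw_23_16 (t u : K) (R : GL chevD4.Idx K) : Xr 23 t * (Xr 16 u * R) = Xr 16 u * (Xr 23 t * R) := by
  have h := conj_nil (hA := (sys (F := K)).toAddRel) (commPos sys) (a := 23) (κ := 16) (pos_all _ (by simp)) (pos_all _ (by simp)) (by decide) (by decide +kernel) t u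
  rw [← mul_assoc, h, mul_assoc]

theorem sw_23_15 (t u : K) (R : GL chevD4.Idx K) : Xr 23 t * (Xr 15 u * R) = Xr 15 u * (Xr 23 t * R) := by
  have h := conj_nil (hA := (sys (F := K)).toAddRel) (commPos sys) (a := 23) (κ := 15) (pos_all _ (by simp)) (pos_all _ (by simp)) (by decide) (by decide +kernel) t u
  rw [← mul_assoc, h, mul_assoc]

theorem sw_23_17 (t u : K) (R : GL chevD4.Idx K) : Xr 23 t * (Xr 17 u * R) = Xr 17 u * (Xr 23 t * R) := by
  have h := conj_nil (hA := (sys (F := K)).toAddRel) (commPos sys) (a := 23) (κ := 17) (pos_all _ (by simp)) (pos_all _ (by simp)) (by decide) (by decide +kernel) t u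
  rw [← mul_assoc, h, mul_assoc]

theorem sw_23_20 (t u : K) (R : GL chevD4.Idx K) : Xr 23 t * (Xr 20 u * R) = Xr 20 u * (Xr 23 t * R) := by
  have h := conj_nil (hA := (sys (F := K)).toAddRel) (commPos sys) (a := 23) (κ := 20) (pos_all _ (by simp)) (pos_all _ (by simp)) (by decide) (by decide +kernel) t u
  rw [← mul_assoc, h, mul_assoc]

theorem sw_23_21 (t u : K) (R : GL chevD4.Idx K) : Xr 23 t * (Xr 21 u * R) = Xr 21 u * (Xr 23 t * R) := by
  have h := conj_nil (hA := (sys (F := K)).toAddRel) (commPos sys) (a := 23) (κ := 21) (pos_all _ (by simp)) (pos_all _ (by simp)) (by decide) (by decide +kernel) t u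
  rw [← mul_assoc, h, mul_assoc]

theorem sw_23_22 (t u : K) (R : GL chevD4.Idx K) : Xr 23 t * (Xr 22 u * R) = Xr 22 u * (Xr 23 t * R) := by
  have h := conj_nil (hA := (sys (F := K)).toAddRel) (commPos sys) (a := 23) (κ := 22) (pos_all _ (by simp)) (pos_all _ (by simp)) (by decide) (by decide +kernel) t u
  rw [← mul_assoc, h, mul_assoc]

/-- The normal form of an element of the unipotent subgroup of `³D₄(q)`. -/
noncomputable def pr (φ : K →+* K) (a b c d e f : K) : GL chevD4.Idx K :=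
  Xr 18 a * (Xr 13 (φ a) * (Xr 12 (φ (φ a)) * (Xr 14 b * (Xr 19 c * (Xr 16 (φ c) * (Xr 15 (φ (φ c)) *
    (Xr 17 d * (Xr 20 (φ d) * (Xr 21 (φ (φ d)) * (Xr 22 e * (Xr 23 f * 1)))))))))))

theorem pr_congr {φ : K →+* K} {a b c d e f a' b' c' d' e' f' : K} (h1 : a = a') (h2 : b = b') (h3 : c = c')
    (h4 : d = d') (h5 : e = e') (h6 : f = f') : pr φ a b c d e f = pr φ a' b' c' d' e' f' := by
  rw [h1, h2, h3, h4, h5, h6]

/-- The polynomial of the last coordinate. -/
noncomputable def lawF (φ : K →+* K) (a b c d e f a' b' c' d' e' f' : K) : K :=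

  b * b * a' * (φ a') * (φ (φ a')) + b * c * (φ a') * (φ (φ a')) + b * (φ c) * a' * (φ (φ a')) + b * (φ (φ c)) * a' * (φ a') + b * a' * (φ a') * (φ (φ a')) * b' + b * a' * (φ a') * (φ (φ c')) + b * a' * (φ (φ a')) * (φ c') + b * (φ a') * (φ (φ a')) * c' + c * (φ c) * (φ (φ a')) + c * (φ (φ c)) * (φ a') + c * (φ a') * (φ (φ a')) * b' + c * (φ a') * (φ (φ c')) + c * (φ (φ a')) * (φ c') + (φ c) * (φ (φ c)) * a' + (φ c) * a' * (φ (φ a')) * b' + (φ c) * a' * (φ (φ c')) + (φ c) * (φ (φ a')) * c' + (φ (φ c)) * a' * (φ a') * b' + (φ (φ c)) * a' * (φ c') + (φ (φ c)) * (φ a') * c' + d * a' * b' + d * c' + (φ d) * (φ a') * b' + (φ d) * (φ c') + (φ (φ d)) * (φ (φ a')) * b' + (φ (φ d)) * (φ (φ c')) + e * b' + f + f'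

/-- The polynomial of the fifth coordinate. -/
noncomputable def lawE (φ : K →+* K) (a b c d e a' b' c' d' e' : K) : K :=
  b * a' * (φ a') * (φ (φ a')) + c * (φ a') * (φ (φ a')) + (φ c) * a' * (φ (φ a')) + (φ (φ c)) * a' * (φ a') + d * a' + (φ d) * (φ a') + (φ (φ d)) * (φ (φ a')) + e + e'

/-- The polynomial of the fourth coordinate. -/
noncomputable def lawD (φ : K →+* K) (b c d a' d' : K) : K :=
  b * (φ a') * (φ (φ a')) + (φ c) * (φ (φ a')) + (φ (φ c)) * (φ a') + d + d'

/-- The group law. -/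
theorem pr_mul (φ : K →+* K) (hφ3 : ∀ t, φ (φ (φ t)) = t) {b : K} (hb : φ b = b) (a c d e f a' b' c' d' e' f' : K) :
    pr φ a b c d e f * pr φ a' b' c' d' e' f' =
      pr φ (a + a') (b + b') (c + c' + b * a') (lawD φ b c d a' d') (lawE φ a b c d e a' b' c' d' e')
        (lawF φ a b c d e f a' b' c' d' e' f') := by
  unfold pr lawD lawE lawF
  simp only [mul_assoc, one_mul, mg, sw_13_18, sw_12_18, sw_12_13, sw_14_18, sw_14_13, sw_14_12, sw_19_18, sw_19_13, sw_19_12, sw_19_14, sw_16_18, sw_16_13, sw_16_12, sw_16_14, sw_16_19, sw_15_18, sw_15_13, sw_15_12, sw_15_14, sw_15_19, sw_15_16, sw_17_18, sw_17_13, sw_17_12, sw_17_14, sw_17_19, sw_17_16, sw_17_15, sw_20_18, sw_20_13, sw_20_12, sw_20_14, sw_20_19, sw_20_16, sw_20_15, sw_20_17, sw_21_18, sw_21_13, sw_21_12, sw_21_14, sw_21_19, sw_21_16, sw_21_15, sw_21_17, sw_21_20, sw_22_18, sw_22_13, sw_22_12, sw_22_14, sw_22_19, sw_22_16, sw_22_15, sw_22_17, sw_22_20, sw_22_21, sw_23_18, sw_23_13, sw_23_12, sw_23_14,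 sw_23_19, sw_23_16, sw_23_15, sw_23_17, sw_23_20, sw_23_21, sw_23_22]
  refine cX ?_ (cX ?_ (cX ?_ (cX ?_ (cX ?_ (cX ?_ (cX ?_ (cX ?_ (cX ?_ (cX ?_ (cX ?_ (cX ?_ rfl)))))))))))
  all_goals (try simp only [map_add, map_mul, hb, hφ3])
  all_goals ring

end Cfsg.Agent.Lib.Tw3D4
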